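import Groth.Agent.H87.CartanUnip
import Groth.Agent.H66.UnipPoints
import Groth.Agent.H1.Classical.RadUNormal
import Groth.Agent.H1.GrpIrred
import Groth.Agent.Lib.GrpSch.ConnFibre
import Mathlib.Topology.KrullDimension
import Mathlib.GroupTheory.Nilpotent

/-!
# A subgroup of codimension one of a unipotent group is normal, over an algebraically closed field
-/

set_option autoImplicit false
set_option linter.style.haveILetI false
set_option linter.unusedSectionVars false
universe u

open CategoryTheory MonoidalCategory CartesianMonoidalCategory MonObj GrpObj AlgebraicGeometry Limits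
open Groth.Agent.Lib.RedPts Groth.Agent.Lib.RedPts.Points
open Groth.Agent.H1.Classical Groth.Agent.H1.Classical.Scheme' Groth.Agent.H1.Classical.MaxTorusApply
open Groth.Agent.Lib.GrpSch
open commutatorElement

namespace Groth.Agent.Lib.H11CodimOne.Alg

attribute [local instance] baseAlgebra

variable {k : Type u} [Field k] [IsAlgClosed k]

/-- The points of a smooth connected affine group without subtori form a nilpotent group. -/
theorem isNilpotent_pts {G : Over (Spec (CommRingCat.of k))} [GrpObj G] [IsAffine G.left] [Smooth G.hom]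
    [ConnectedSpace G.left] (h : Red.HasNoSubtorus k G) :
    Group.IsNilpotent (𝟙_ (Over (Spec (CommRingCat.of k))) ⟶ G) := by
  obtain ⟨A, _, _, _, _, e, he⟩ := exists_GA G
  haveI := he
  haveI : IsMonHom e.inv := inferInstance
  have h' : Red.HasNoSubtorus k (GA k A) := fun T _ j _ _ hT => h T (j ≫ e.inv) hT
  haveI := MaxTorusScheme.locallyOfFiniteType (k := k) (A := A)
  obtain ⟨W, _, σ, hσ⟩ := Torus.GenRep.exists_gen (HopfPts.D k A) hasMul_pts pts_ext
  have hU := Groth.Agent.H87.CartanUnip.isUnipotent_of_nilp hσ (Unipotent.nilp_GA h' hσ)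
  haveI := Groth.Agent.H66.UnipPoints.isNilpotent_points hU
  let φ : HopfPts.Pt k A →* (𝟙_ (Over (Spec (CommRingCat.of k))) ⟶ G) :=
    (postcomp e.inv _).comp (ptHom _)
  exact Group.nilpotent_of_surjective φ fun x => by
    obtain ⟨χ, hχ⟩ := ptHom_surjective (x ≫ e.hom)
    exact ⟨χ, show ptHom _ χ ≫ e.inv = x by rw [hχ, Category.assoc, Iso.hom_inv_id, Category.comp_id]⟩

/-- A point in the range of a monomorphism lifts. -/
theorem exists_lift {U G : Over (Spec (CommRingCat.of k))} [LocallyOfFiniteType G.hom] (i : U ⟶ G)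
    [IsClosedImmersion i.left] (g : 𝟙_ (Over (Spec (CommRingCat.of k))) ⟶ G)
    (hg : g.left (IsLocalRing.closedPoint k) ∈ Set.range i.left) : ∃ y, y ≫ i = g := by
  have hr : Set.range g.left ⊆ Set.range i.left := by
    rintro _ ⟨w, rfl⟩
    rwa [Subsingleton.elim (α := PrimeSpectrum k) w (IsLocalRing.closedPoint k)]
  haveI : IsReduced (𝟙_ (Over (Spec (CommRingCat.of k)))).left :=
    inferInstanceAs (IsReduced (Spec (CommRingCat.of k)))
  let p := pullback.fst g i
  haveI : IsClosedImmersion p.left :=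
    MorphismProperty.of_isPullback (P := @IsClosedImmersion)
      ((IsPullback.of_hasPullback g i).map (Over.forget _)).flip ‹_›
  haveI : Surjective p.left := by
    refine ⟨fun w => ?_⟩
    obtain ⟨u, hu⟩ := hr ⟨w, rfl⟩
    obtain ⟨z, hz, -⟩ := Scheme.exists_preimage_of_isPullback
      ((IsPullback.of_hasPullback g i).map (Over.forget _)) w u hu.symm
    exact ⟨z, hz⟩
  haveI : IsIso p.left := isIso_of_isClosedImmersion_of_surjective p.left
  haveI : IsIso p := by
    haveI : IsIso ((Over.forget _).map p) := ‹IsIso p.left›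
    exact isIso_of_reflects_iso p (Over.forget _)
  exact ⟨CategoryTheory.inv p ≫ pullback.snd g i, by
    rw [Category.assoc, ← pullback.condition, IsIso.inv_hom_id_assoc]⟩

/-- A codimension-one smooth connected subgroup of a unipotent group is normal on points. -/
theorem isNormalHom {G U : Over (Spec (CommRingCat.of k))} [GrpObj G] [GrpObj U] [IsAffine G.left] [Smooth G.hom]
    [ConnectedSpace G.left] (hG : Red.HasNoSubtorus k G) (i : U ⟶ G) [IsMonHom i] [IsClosedImmersion i.left]
    [Smooth U.hom] [ConnectedSpace U.left] (d : ℕ) (hd : topologicalKrullDim ↥U.left = (d : WithBot ℕ∞))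
    (hd' : topologicalKrullDim ↥G.left = ((d + 1 : ℕ) : WithBot ℕ∞)) : AlgGrp.IsNormalHom i := by
  classical
  refine RadU.isNormalHom_of_pts i ?_
  let H : Subgroup (𝟙_ (Over (Spec (CommRingCat.of k))) ⟶ G) := (postcomp i _).range
  suffices hH : ∀ g, ∀ h ∈ H, g * h * g⁻¹ ∈ H by
    intro g w
    obtain ⟨y, hy⟩ := hH g (w ≫ i) ⟨w, rfl⟩
    exact ⟨y, hy.symm⟩
  haveI := isNilpotent_pts hG
  obtain ⟨N, hN⟩ := Subgroup.nilpotent_iff_lowerCentralSeries.mp
    (inferInstance : Group.IsNilpotent (𝟙_ (Over (Spec (CommRingCat.of k))) ⟶ G))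
  let Lc := fun n : ℕ =>
    (⊤ : Subgroup (𝟙_ (Over (Spec (CommRingCat.of k))) ⟶ G)).lowerCentralSeries n
  have hex : ∃ n, Lc n ≤ H := ⟨N, hN.trans_le bot_le⟩
  rcases Nat.eq_zero_or_pos (Nat.find hex) with h0 | hpos
  · intro g h hh
    have := Nat.find_spec hex
    rw [h0] at this
    exact this (Subgroup.mem_top _)
  obtain ⟨n, hn⟩ : ∃ n, Nat.find hex = n + 1 := ⟨_, (Nat.succ_pred_eq_of_pos hpos).symm⟩
  have hn1 : Lc (n + 1) ≤ H := hn ▸ Nat.find_spec hex
  have hn0 : ¬ Lc n ≤ H := Nat.find_min hex (by omega)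
  have hnorm : ∀ c ∈ Lc n, ∀ h ∈ H, c * h * c⁻¹ ∈ H := by
    intro c hc h hh
    have h1 : ⁅c, h⁆ ∈ H := hn1 (Subgroup.commutator_mem_commutator hc (Subgroup.mem_top h))
    have h2 := H.mul_mem h1 hh
    rwa [show ⁅c, h⁆ * h = c * h * c⁻¹ by rw [commutatorElement_def]; group] at h2
  rcases Nat.eq_zero_or_pos n with rfl | hn'
  · exact fun g h hh => hnorm g (Subgroup.mem_top g) h hh
  obtain ⟨m, rfl⟩ : ∃ m, n = m + 1 := ⟨_, (Nat.succ_pred_eq_of_pos hn').symm⟩
  obtain ⟨a, ha, b, hb⟩ : ∃ a ∈ Lc m, ∃ b, ⁅a, b⁆ ∉ H := by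
    by_contra! hc
    exact hn0 (Subgroup.commutator_le.2 fun a ha b _ => hc a ha b)
  let ψ : G ⟶ G := (toUnit G ≫ a) * 𝟙 G * (toUnit G ≫ a)⁻¹ * (𝟙 G)⁻¹
  have hψ : ∀ g : 𝟙_ (Over (Spec (CommRingCat.of k))) ⟶ G, g ≫ ψ = ⁅a, g⁆ := fun g => by
    have e : g ≫ toUnit G ≫ a = a := by
      rw [← Category.assoc, toUnit_unique (g ≫ toUnit G) (𝟙 _), Category.id_comp]
    simp only [ψ, MonObj.comp_mul, GrpObj.comp_inv, e, Category.comp_id, commutatorElement_def]
  haveI : IsAffine U.left := isAffine_of_isAffineHom i.left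
  let P := U ⊗ G
  haveI : Smooth P.hom := inferInstanceAs (Smooth (Limits.pullback.fst U.hom G.hom ≫ U.hom))
  haveI : GeometricallyConnected G.hom :=
    geometricallyConnected_of_rationalPoint G.hom η[G].left (Over.w η[G])
  haveI : IrreducibleSpace U.left := H1.GrpIrred.irreducibleSpace_of_isAlgClosed U
  haveI : ConnectedSpace P.left := inferInstanceAs (ConnectedSpace ↥(pullback U.hom G.hom))
  haveI : QuasiCompact U.hom := inferInstance
  haveI : QuasiCompact P.hom := inferInstanceAs (QuasiCompact (Limits.pullback.fst U.hom G.hom ≫ U.hom))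
  haveI : IrreducibleSpace P.left := H1.GrpIrred.irreducibleSpace_of_isAlgClosed P
  haveI : JacobsonSpace P.left := LocallyOfFiniteType.jacobsonSpace P.hom
  let μ' : P ⟶ G := (fst U G ≫ i) * (snd U G ≫ ψ)
  let Z := closure (Set.range μ'.left)
  have hpt : ∀ (x : 𝟙_ (Over (Spec (CommRingCat.of k))) ⟶ P),
      x ≫ μ' = (x ≫ fst U G ≫ i) * ⁅a, x ≫ snd U G⁆ := fun x => by
    rw [show μ' = (fst U G ≫ i) * (snd U G ≫ ψ) from rfl, MonObj.comp_mul, ← Category.assoc x (snd U G) ψ, hψ]
  have hZi : Set.range i.left ⊆ Z := by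
    have e : lift (𝟙 U) (1 : U ⟶ G) ≫ μ' = i := by
      simp [μ', MonObj.comp_mul, ψ, GrpObj.comp_inv, MonObj.one_comp]
    rintro _ ⟨u, rfl⟩
    refine subset_closure ⟨(lift (𝟙 U) (1 : U ⟶ G)).left u, ?_⟩
    rw [← Scheme.Hom.comp_apply, ← Over.comp_left, e]
  have hZne : ¬ Z ⊆ Set.range i.left := by
    intro hsub
    refine hb ?_
    let x : 𝟙_ (Over (Spec (CommRingCat.of k))) ⟶ P := lift 1 b
    have hx : x ≫ μ' = ⁅a, b⁆ := by rw [hpt]; simp [x, MonObj.one_comp]
    obtain ⟨y, hy⟩ := exists_lift i ⁅a, b⁆ (hsub (subset_closure ⟨x.left (IsLocalRing.closedPoint k), by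
      rw [← Scheme.Hom.comp_apply, ← Over.comp_left, hx]⟩))
    exact ⟨y, hy⟩
  have hZirr : IsIrreducible Z := by
    rw [show Z = closure (μ'.left '' Set.univ) by rw [Set.image_univ]]
    exact ((IrreducibleSpace.isIrreducible_univ P.left).image _ μ'.left.continuous.continuousOn).closure
  have hZ : Z = Set.univ := by
    by_contra hne
    haveI : IrreducibleSpace G.left := H1.GrpIrred.irreducibleSpace_of_isAlgClosed G
    let Z' : TopologicalSpace.IrreducibleCloseds G.left := ⟨Z, hZirr, isClosed_closure⟩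
    let T : TopologicalSpace.IrreducibleCloseds G.left :=
      ⟨Set.univ, IrreducibleSpace.isIrreducible_univ _, isClosed_univ⟩
    have hZT : Z' < T := lt_of_le_of_ne (fun _ _ => trivial) fun e =>
      hne (congrArg (fun s : TopologicalSpace.IrreducibleCloseds G.left => (s : Set G.left)) e)
    obtain ⟨l, hl⟩ := Order.le_krullDim_iff.1
      (show ((d : ℕ) : WithBot ℕ∞) ≤ topologicalKrullDim ↥U.left from hd.ge)
    let l' := l.map (TopologicalSpace.IrreducibleCloseds.map i.left i.left.continuous)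
      (TopologicalSpace.IrreducibleCloseds.map_strictMono_of_isInducing i.left.isEmbedding.isInducing)
    have hlast : l'.last < Z' := by
      have hle : (l'.last : Set G.left) ⊆ Set.range i.left :=
        closure_minimal (Set.image_subset_range _ _) i.left.isClosedEmbedding.isClosed_range
      refine lt_of_le_of_ne (hle.trans hZi) fun e => hZne ?_
      have e' : (l'.last : Set G.left) = Z :=
        congrArg (fun s : TopologicalSpace.IrreducibleCloseds G.left => (s : Set G.left)) e
      exact e'.symm.subset.trans hle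
    let l₁ := l'.snoc Z' hlast
    let l₂ := l₁.snoc T (by rw [RelSeries.last_snoc]; exact hZT)
    have h2 : ((d + 2 : ℕ) : WithBot ℕ∞) ≤ topologicalKrullDim ↥G.left :=
      Order.le_krullDim_iff.2 ⟨l₂, show l.length + 1 + 1 = d + 2 by omega⟩
    rw [hd'] at h2
    have : d + 2 ≤ d + 1 := by exact_mod_cast h2
    omega
  intro g h hh
  obtain ⟨u, rfl⟩ : ∃ u, u ≫ i = h := hh
  let Φ : G ⟶ G := 𝟙 G * (toUnit G ≫ u ≫ i) * (𝟙 G)⁻¹
  have hΦ : ∀ x : 𝟙_ (Over (Spec (CommRingCat.of k))) ⟶ G, x ≫ Φ = x * (u ≫ i) * x⁻¹ := fun x => by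
    have e : x ≫ toUnit G ≫ u ≫ i = u ≫ i := by
      rw [← Category.assoc, toUnit_unique (x ≫ toUnit G) (𝟙 _), Category.id_comp]
    simp only [Φ, MonObj.comp_mul, GrpObj.comp_inv, e, Category.comp_id]
  let K : Set G.left := Φ.left ⁻¹' Set.range i.left
  have hKc : IsClosed K := i.left.isClosedEmbedding.isClosed_range.preimage Φ.left.continuous
  have hsub : closedPoints P.left ⊆ μ'.left ⁻¹' K := by
    intro z hz
    obtain ⟨x, hx⟩ := exists_point (mem_closedPoints_iff.mp hz)
    have hc : ⁅a, x ≫ snd U G⁆ ∈ Lc (m + 1) :=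
      Subgroup.commutator_mem_commutator ha (Subgroup.mem_top _)
    have hmem : x ≫ μ' ≫ Φ ∈ H := by
      rw [← Category.assoc, hΦ, hpt]
      have hv : x ≫ fst U G ≫ i ∈ H := ⟨x ≫ fst U G, show (x ≫ fst U G) ≫ i = _ from Category.assoc _ _ _⟩
      have h1 := H.mul_mem (H.mul_mem hv (hnorm _ hc (u ≫ i) ⟨u, rfl⟩)) (H.inv_mem hv)
      convert h1 using 1
      group
    obtain ⟨y, hy⟩ := hmem
    refine ⟨y.left (IsLocalRing.closedPoint k), ?_⟩
    have := congrArg (fun f => f.left (IsLocalRing.closedPoint k)) hy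
    simp only [Over.comp_left, Scheme.Hom.comp_apply, hx] at this
    exact this
  have hall : Set.range μ'.left ⊆ K := by
    rintro _ ⟨z, rfl⟩
    have := closure_minimal hsub (hKc.preimage μ'.left.continuous)
    rw [closure_closedPoints] at this
    exact this (Set.mem_univ z)
  have hgK : g.left (IsLocalRing.closedPoint k) ∈ K :=
    (closure_minimal hall hKc) (show _ ∈ Z by rw [hZ]; trivial)
  obtain ⟨y, hy⟩ := exists_lift i (g ≫ Φ) (by
    rw [Over.comp_left, Scheme.Hom.comp_apply]; exact hgK)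
  exact ⟨y, hy.trans (hΦ g)⟩

end Groth.Agent.Lib.H11CodimOne.Alg
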